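import Groth.Agent.WedgeX.Perfect
import Groth.Agent.ExtShX.SmDualAll
import Groth.Agent.ExtShX.SmExt
import Groth.Agent.HilbPoly.PnTwist
import Groth.Agent.Lib.PnDualSheafHom
import Groth.Agent.S2926
import Groth.Agent.KFlatLib.Perfect.Tensor

/-!
# Serre duality between complementary exterior powers of the differentials
-/

set_option autoImplicit false
set_option linter.style.haveILetI false
set_option backward.isDefEq.respectTransparency false
set_option backward.isDefEq.respectTransparency.types false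

universe u

open CategoryTheory CategoryTheory.Limits AlgebraicGeometry TopologicalSpace Opposite

noncomputable section

namespace Groth.Agent.WedgeX

variable {X : Scheme.{u}}

/-- `Hom(A ⊗ B, T) = Hom(A, Hom(B, T))`. -/
def homTensorIso (A B : X.Modules) :
    SheafHomX.hom (CohB1.tensorMod A B) ≅ SheafHomX.hom B ⋙ SheafHomX.hom A :=
  (SheafHomX.adj (CohB1.tensorMod A B)).rightAdjointUniq
    (((SheafHomX.adj A).comp (SheafHomX.adj B)).ofNatIsoLeft (AmpleVan.twComp A B))

/-- `Hom(M, N) = N ⊗ D` for `M ⊗ D = O`. -/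
theorem nonempty_hom_invertible {M D : X.Modules} (hM : PicF.IsInvertible M)
    (d : CohB1.tensorMod M D ≅ Coh.structureModule X) (N : X.Modules) :
    Nonempty ((SheafHomX.hom M).obj N ≅ CohB1.tensorMod N D) := by
  haveI : ModSite.HasSheafHom (O := X.sheaf) M := ModTensor.hasSheafHom (O := X.sheaf) M
  obtain ⟨a⟩ := ExtShX.SmExt.nonempty_sheafHom_tensor_iso hM (CohB1.tensorMod N D)
  obtain ⟨c⟩ := HilbPoly.tensor_congr N ((H23.PicMul.comm D M).some ≪≫ d)
  let b : CohB1.tensorMod (CohB1.tensorMod N D) M ≅ N :=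
    (H23.PicMul.assoc N D M).some ≪≫ c ≪≫ (H23.PicMul.unit N).some
  exact ⟨((ChangeRings.siteHomIso (Z := X) M).app N).symm ≪≫
    (ModSite.sheafHom (O := X.sheaf) M).mapIso b.symm ≪≫ a⟩

variable {k : Type u} [Field k] [X.Over (Spec (CommRingCat.of k))] {n N : ℕ}
  (ι : X ⟶ CohB1.ProjSpace N k) [IsClosedImmersion ι]

/-- `h^q(Ω^p ⊗ M) = h^{n-q}(Ω^{n-p} ⊗ M⁻¹)`. -/
theorem finrank_eq (hι : ι ≫ CohB1.ProjSpace.toSpec N k = X ↘ Spec (CommRingCat.of k))
    [SmoothOfRelativeDimension n (X ↘ Spec (CommRingCat.of k))] (p q : ℕ) (hp : p ≤ n) (hq : q ≤ n)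
    {L L' : X.Modules} (hL : ExtPow.IsExtPow p (Omega.sheaf (X ↘ Spec (CommRingCat.of k))) L)
    (hL' : ExtPow.IsExtPow (n - p) (Omega.sheaf (X ↘ Spec (CommRingCat.of k))) L')
    {M D : X.Modules} (hM : PicF.IsInvertible M) (d : CohB1.tensorMod M D ≅ Coh.structureModule X) :
    Module.finrank k (Coh.HH X (CohB1.tensorMod M L) q) =
      Module.finrank k (Coh.HH X (CohB1.tensorMod L' D) (n - q)) := by
  classical
  let f := X ↘ Spec (CommRingCat.of k)
  haveI : IsProper (CohB1.ProjSpace.toSpec N k) := PnCoh.Chow.isProper_toSpec N k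
  haveI : IsProper f := by
    show IsProper (X ↘ Spec (CommRingCat.of k))
    rw [← hι]
    infer_instance
  haveI : Smooth f := SmoothOfRelativeDimension.smooth (n := n) f
  haveI : IsLocallyNoetherian X := LocallyOfFiniteType.isLocallyNoetherian f
  haveI : HasExt.{u} X.Modules := IsGrothendieckAbelian.hasExt _
  have hE : FlatMod.IsFinLocFreeOfRank n (Omega.sheaf f) := ExtShX.SmDual.flf_omega f n
  choose U hU s hs using fun x : X => ExtShX.SmFrame.exists_frame_relDim f n x
  obtain ⟨T, hT, -⟩ := ExtShX.TopExt.exists_isExtPow U s hs (OmegaUniv.isQCoh_omega _) hU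
  have hF : FlatMod.IsFinLocFree (CohB1.tensorMod M L) :=
    KFlatLib.isFinLocFree_tensor (H23.PullPush.isFinLocFree_of_isInvertible hM) (isFinLocFree hE hL)
  obtain ⟨e⟩ := (ExtShX.SmDual.duality ι hι hT _ (CurveDeg.isCoh_of_isFinLocFree hF) (n - q)).1 (Nat.sub_le n q)
  obtain ⟨e'⟩ := PnDual.nonempty_ext_linearEquiv_HH (A := k) hF T (n - q)
  obtain ⟨w⟩ := nonempty_iso_hom hE hL hL' hT (Nat.sub_add_cancel hp)
  obtain ⟨c⟩ := nonempty_hom_invertible hM d L'
  let i : (SheafHomX.hom (CohB1.tensorMod M L)).obj T ≅ CohB1.tensorMod L' D :=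
    (homTensorIso M L).app T ≪≫ (SheafHomX.hom M).mapIso w.symm ≪≫ c
  rw [show n - (n - q) = q by omega] at e
  have h := (e.symm ≪≫ₗ e' ≪≫ₗ S2926.hhIso k i (n - q)).finrank_eq
  rw [Subspace.dual_finrank_eq] at h
  exact h

end Groth.Agent.WedgeX
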