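import Groth.Agent.WedgeX.Alg
import Groth.Agent.ExtShX.ExtPowTop
import Groth.Agent.ExtShX.SmFrame
import Groth.Agent.QCoh.LocFree
import Mathlib

/-!
# Exterior powers of a locally free module are locally free
-/

set_option autoImplicit false
set_option linter.style.haveILetI false
set_option backward.isDefEq.respectTransparency false
set_option backward.isDefEq.respectTransparency.types false

universe u

open CategoryTheory CategoryTheory.Limits AlgebraicGeometry TopologicalSpace Opposite Set.powersetCard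

noncomputable section

namespace Groth.Agent.WedgeX

open Groth.Agent.AModX

variable {X : Scheme.{u}} {n p : ℕ} {E L : X.Modules}

variable (φ : ∀ U : X.affineOpens, (L.val.obj (op U.1)) ≃ₗ[Γ(X, U.1)] ↥(⋀[Γ(X, U.1)]^p (E.val.obj (op U.1))))

/-- The compatibility of an exterior power. -/
def Compat : Prop :=
  ∀ (U V : X.affineOpens) (h : V.1 ≤ U.1) (e : Fin p → E.val.obj (op U.1)),
    L.val.map (homOfLE h).op ((φ U).symm (exteriorPower.ιMulti _ p e)) =
      (φ V).symm (exteriorPower.ιMulti _ p (fun j => E.val.map (homOfLE h).op (e j)))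

section Frame

variable {U₀ : X.Opens} {s : Fin n → Γ(E, U₀)} (hs : H23.Frame.IsFrame E s)

/-- The basis of the sections of the exterior power over an affine open inside a frame. -/
def lbas (W : X.affineOpens) (hW : W.1 ≤ U₀) :
    Module.Basis (Set.powersetCard (Fin n) p) Γ(X, W.1) Γ(L, W.1) :=
  ((show Module.Basis (Fin n) Γ(X, W.1) (E.val.obj (op W.1)) from
    ExtShX.TopExt.bas hs W.1 hW).exteriorPower p).map (φ W).symm

theorem lbas_apply (W : X.affineOpens) (hW : W.1 ≤ U₀) (S : Set.powersetCard (Fin n) p) :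
    lbas φ hs W hW S = (show Γ(L, W.1) from (φ W).symm (exteriorPower.ιMulti Γ(X, W.1) p
      (fun i => (show E.val.obj (op W.1) from res E hW (s (ofFinEmbEquiv.symm S i)))))) := by
  rw [lbas, Module.Basis.map_apply, exteriorPower.basis_apply]
  show (φ W).symm (exteriorPower.ιMulti _ p _) = _
  congr 2
  funext i
  exact ExtShX.TopExt.bas_apply hs W.1 hW _

theorem res_lbas (hφ : Compat φ) (W W' : X.affineOpens) (h : W'.1 ≤ W.1) (hW : W.1 ≤ U₀)
    (S : Set.powersetCard (Fin n) p) :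
    res L h (lbas φ hs W hW S) = lbas φ hs W' (h.trans hW) S := by
  rw [lbas_apply, lbas_apply]
  refine (hφ W W' h _).trans ?_
  congr 2
  funext i
  exact res_res _ _ _

variable (W : X.affineOpens) (hW : W.1 ≤ U₀)

/-- The wedges of a frame. -/
def lframe : Fin (Fintype.card (Set.powersetCard (Fin n) p)) → Γ(L, W.1) := fun j =>
  lbas φ hs W hW ((Fintype.equivFin _).symm j)

theorem isFrame_lframe (hφ : Compat φ) : H23.Frame.IsFrame L (lframe φ hs W hW) := by
  refine ExtShX.Fund.isFrame_of_germs _ fun x hx => ⟨fun c c' he => ?_, fun z => ?_⟩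
  · choose V₁ hV₁ a ha using fun i => X.presheaf.exists_germ_eq (x := x) (c i)
    choose V₂ hV₂ a' ha' using fun i => X.presheaf.exists_germ_eq (x := x) (c' i)
    let V : X.Opens := W.1 ⊓ Finset.univ.inf (fun i => V₁ i ⊓ V₂ i)
    have hxV : x ∈ V := ⟨hx, by
      show x ∈ ((Finset.univ.inf fun i => V₁ i ⊓ V₂ i : X.Opens) : Set X)
      simp [TopologicalSpace.Opens.coe_finset_inf, hV₁, hV₂]⟩
    have h1 : ∀ i, V ≤ V₁ i := fun i => inf_le_right.trans ((Finset.inf_le (Finset.mem_univ i)).trans inf_le_left)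
    have h2 : ∀ i, V ≤ V₂ i := fun i => inf_le_right.trans ((Finset.inf_le (Finset.mem_univ i)).trans inf_le_right)
    have he' : L.presheaf.germ V x hxV (∑ i, resR (h1 i) (a i) • res L (inf_le_left : V ≤ W.1) (lframe φ hs W hW i)) =
        L.presheaf.germ V x hxV (∑ i, resR (h2 i) (a' i) • res L (inf_le_left : V ≤ W.1) (lframe φ hs W hW i)) := by
      have e : ∀ i b, L.presheaf.germ V x hxV (b • res L (inf_le_left : V ≤ W.1) (lframe φ hs W hW i)) =
          X.presheaf.germ V x hxV b • L.presheaf.germ W.1 x hx (lframe φ hs W hW i) := fun i b => by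
        rw [QCoh.germ_smul']
        exact congrArg _ (RefX.germ_res L _ hxV _)
      simp only [map_sum, e, RefX.germ_resR, ha, ha']
      exact he
    obtain ⟨V', hxV', i₁, i₂, hij⟩ :=
      TopCat.Presheaf.germ_eq (C := AddCommGrpCat.{u}) L.presheaf x hxV hxV _ _ he'
    obtain ⟨_, ⟨Q, hQ, rfl⟩, hxQ, hQV⟩ := X.isBasis_affineOpens.exists_subset_of_mem_open hxV' V'.2
    change res L i₁.le _ = res L i₂.le _ at hij
    have hij' := congrArg (res L (hQV : Q ≤ V')) hij
    simp only [res_res, map_sum, res_smul, lframe] at hij'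
    have hQW : Q ≤ W.1 := ((hQV : Q ≤ V').trans i₁.le).trans inf_le_left
    have e2 : ∀ S {A : X.Opens} (h₃ : Q ≤ A) (h₄ : A ≤ W.1),
        res L h₃ (res L h₄ (lbas φ hs W hW S)) = lbas φ hs ⟨Q, hQ⟩ (hQW.trans hW) S :=
      fun S _ h₃ h₄ => (res_res _ _ _).trans (res_lbas φ hs hφ W ⟨Q, hQ⟩ hQW hW S)
    have hli := Fintype.linearIndependent_iffₛ.1
      ((lbas φ hs ⟨Q, hQ⟩ (hQW.trans hW)).linearIndependent.comp _ (Fintype.equivFin _).symm.injective) _ _
      ((Finset.sum_congr rfl fun j _ => congrArg _ (e2 ((Fintype.equivFin _).symm j) _ _).symm).trans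
        (hij'.trans (Finset.sum_congr rfl fun j _ => congrArg _ (e2 ((Fintype.equivFin _).symm j) _ _))))
    funext i
    have h3 := congrArg (X.presheaf.germ Q x hxQ) (hli i)
    simpa only [RefX.germ_resR, ha, ha'] using h3
  · obtain ⟨V, hV, m, rfl⟩ := TopCat.Presheaf.exists_germ_eq L.presheaf z
    obtain ⟨_, ⟨Q, hQ, rfl⟩, hxQ, hQV⟩ :=
      X.isBasis_affineOpens.exists_subset_of_mem_open (show x ∈ V ⊓ W.1 from ⟨hV, hx⟩) (V ⊓ W.1).2
    have hQW : Q ≤ W.1 := (hQV : Q ≤ V ⊓ W.1).trans inf_le_right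
    let B := lbas φ hs ⟨Q, hQ⟩ (hQW.trans hW)
    refine ⟨fun j => X.presheaf.germ Q x hxQ (B.repr (res L ((hQV : Q ≤ V ⊓ W.1).trans inf_le_left) m)
      ((Fintype.equivFin _).symm j)), ?_⟩
    show ∑ j, _ • L.presheaf.germ _ x hx (lframe φ hs W hW j) = _
    conv_lhs =>
      enter [2, j]
      rw [lframe, ← RefX.germ_res L hQW hxQ, res_lbas φ hs hφ W ⟨Q, hQ⟩ hQW hW, ← QCoh.germ_smul']
    rw [← map_sum, Equiv.sum_comp (Fintype.equivFin _).symm fun S => B.repr _ S • B S, B.sum_repr, RefX.germ_res]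

end Frame

/-- Exterior powers of locally free modules are locally free. -/
theorem isFinLocFree (hE : FlatMod.IsFinLocFreeOfRank n E) (hL : ExtPow.IsExtPow p E L) :
    FlatMod.IsFinLocFree L := fun x => by
  obtain ⟨φ, hφ⟩ := hL
  obtain ⟨U, hxU, ⟨e⟩⟩ := hE x
  obtain ⟨s, hs⟩ := H23.Frame.exists_frame e
  obtain ⟨_, ⟨V, hV, rfl⟩, hxV, hle⟩ := X.isBasis_affineOpens.exists_subset_of_mem_open hxU U.2
  exact ⟨V, _, hxV, H23.Frame.exists_iso_of_frame _ (isFrame_lframe φ hs ⟨V, hV⟩ hle hφ)⟩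

end Groth.Agent.WedgeX
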