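import Groth.Agent.WedgeX.Sheaf
import Groth.Agent.ExtShX.Compare
import Groth.Agent.ChangeRings.Basic
import Groth.Agent.ModTensor.SheafHom

/-!
# `Ω^{n-p} ≅ Hom(Ω^p, Ω^n)`
-/

set_option autoImplicit false
set_option linter.style.haveILetI false
set_option backward.isDefEq.respectTransparency false
set_option backward.isDefEq.respectTransparency.types false

universe u

open CategoryTheory CategoryTheory.Limits AlgebraicGeometry TopologicalSpace Opposite

noncomputable section

namespace Groth.Agent.WedgeX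

variable {X : Scheme.{u}} {n p q : ℕ} {E L L' T : X.Modules}

/-- Complementary exterior powers pair perfectly into the determinant. -/
theorem nonempty_iso_homSh (hE : FlatMod.IsFinLocFreeOfRank n E) (hL : ExtPow.IsExtPow p E L)
    (hL' : ExtPow.IsExtPow q E L') (hT : ExtPow.IsExtPow n E T) (h : q + p = n) :
    Nonempty (L' ≅ RefHull.homSh L T) := by
  have hflf := isFinLocFree hE hL
  obtain ⟨φ, hφ⟩ := hL
  obtain ⟨φ', hφ'⟩ := hL'
  obtain ⟨φT, hφT⟩ := hT
  have hfp := QCoh.isFP_of_isFinLocFree hflf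
  have hq : Coh.IsQCoh L := QCoh.isQCoh_of_isFP hfp
  let a := α φ φ' φT h hq hφ hφ' hφT
  have hb : ∀ x, Function.Bijective (RefHull.stalkMapₗ a x) := fun x => by
    obtain ⟨U, hxU, ⟨e⟩⟩ := hE x
    obtain ⟨s, hs⟩ := H23.Frame.exists_frame e
    have hA := A_bijective φ φ' φT h hq hφ hφ' hφT hs x hxU
    refine ⟨fun z z' e => hA.1 ?_, fun θ => ?_⟩
    · rw [← evalStalk_α φ φ' φT h hq hφ hφ' hφT, ← evalStalk_α φ φ' φT h hq hφ hφ' hφT]
      exact congrArg _ e
    · obtain ⟨z, hz⟩ := hA.2 (RefHull.evalStalk L T x θ)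
      refine ⟨z, RefX.evalStalk_injective (QCoh.isFT_of_isFP hfp) x ?_⟩
      exact (evalStalk_α φ φ' φT h hq hφ hφ' hφT x z).trans hz
  haveI : Mono a := HomShX.mono_of_stalk a fun x => (hb x).1
  haveI : Epi a := HomShX.epi_of_stalk a fun x => (hb x).2
  haveI : IsIso a := isIso_of_mono_of_epi a
  exact ⟨asIso a⟩

/-- Complementary exterior powers pair perfectly, for the internal Hom. -/
theorem nonempty_iso_hom (hE : FlatMod.IsFinLocFreeOfRank n E) (hL : ExtPow.IsExtPow p E L)
    (hL' : ExtPow.IsExtPow q E L') (hT : ExtPow.IsExtPow n E T) (h : q + p = n) :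
    Nonempty (L' ≅ (SheafHomX.hom L).obj T) := by
  haveI : ModSite.HasSheafHom (O := X.sheaf) L := ModTensor.hasSheafHom (O := X.sheaf) L
  obtain ⟨e⟩ := nonempty_iso_homSh hE hL hL' hT h
  exact ⟨e ≪≫ (ExtShX.iso L T).symm ≪≫ (ChangeRings.siteHomIso (Z := X) L).app T⟩

end Groth.Agent.WedgeX
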