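import Mathlib

/-!
# The wedge pairing between complementary exterior powers of a free module
-/

set_option autoImplicit false

universe u

open Module Set Set.powersetCard

noncomputable section

namespace Groth.Agent.WedgeX

variable {R : Type u} [CommRing R] {M : Type u} [AddCommGroup M] [Module R M] {q p n : ℕ}

/-- The product of wedges, in the exterior power of the total degree. -/
def mulLin (h : q + p = n) : ↥(⋀[R]^q M) →ₗ[R] ↥(⋀[R]^p M) →ₗ[R] ↥(⋀[R]^n M) :=
  LinearMap.mk₂ R (fun a b => ⟨a.1 * b.1, by subst h; exact SetLike.GradedMul.mul_mem a.2 b.2⟩)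
    (fun a a' b => Subtype.ext (add_mul a.1 a'.1 b.1)) (fun c a b => Subtype.ext (smul_mul_assoc c a.1 b.1))
    (fun a b b' => Subtype.ext (mul_add a.1 b.1 b'.1)) (fun c a b => Subtype.ext (mul_smul_comm c a.1 b.1))

/-- Concatenation. -/
def app (h : q + p = n) {α : Type*} (v : Fin q → α) (w : Fin p → α) : Fin n → α :=
  Fin.append v w ∘ Fin.cast h.symm

theorem app_map (h : q + p = n) {α β : Type*} (f : α → β) (v : Fin q → α) (w : Fin p → α) :
    f ∘ app h v w = app h (f ∘ v) (f ∘ w) := by
  subst h
  funext i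
  refine Fin.addCases (fun a => ?_) (fun a => ?_) i <;> simp [app]

theorem mulLin_ιMulti (h : q + p = n) (v : Fin q → M) (w : Fin p → M) :
    mulLin h (exteriorPower.ιMulti R q v) (exteriorPower.ιMulti R p w) =
      exteriorPower.ιMulti R n (app h v w) := by
  subst h
  refine Subtype.ext ?_
  show ExteriorAlgebra.ιMulti R q v * ExteriorAlgebra.ιMulti R p w = ExteriorAlgebra.ιMulti R (q + p) _
  simp only [ExteriorAlgebra.ιMulti_apply, app, Fin.cast_refl, Function.comp_id]
  rw [← List.prod_append, ← List.ofFn_fin_append]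
  congr 2
  funext i
  refine Fin.addCases (fun a => ?_) (fun a => ?_) i <;> simp

theorem eq_of_ιMulti (h : q + p = n) {N : Type u} [AddCommGroup N] {f g : ↥(⋀[R]^q M) → ↥(⋀[R]^p M) → N}
    (fadd : ∀ a a' b, f (a + a') b = f a b + f a' b) (fadd' : ∀ a b b', f a (b + b') = f a b + f a b')
    (gadd : ∀ a a' b, g (a + a') b = g a b + g a' b) (gadd' : ∀ a b b', g a (b + b') = g a b + g a b')
    (hsm : ∀ (c : R) v b, f (exteriorPower.ιMulti R q v) b = g (exteriorPower.ιMulti R q v) b →
      f (c • exteriorPower.ιMulti R q v) b = g (c • exteriorPower.ιMulti R q v) b)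
    (hsm' : ∀ (c : R) a w, (∀ a', f a' (exteriorPower.ιMulti R p w) = g a' (exteriorPower.ιMulti R p w)) →
      f a (c • exteriorPower.ιMulti R p w) = g a (c • exteriorPower.ιMulti R p w))
    (hgen : ∀ v w, f (exteriorPower.ιMulti R q v) (exteriorPower.ιMulti R p w) =
      g (exteriorPower.ιMulti R q v) (exteriorPower.ιMulti R p w))
    (a : ↥(⋀[R]^q M)) (b : ↥(⋀[R]^p M)) : f a b = g a b := by
  have h0 : ∀ b, f 0 b = g 0 b := fun b => by
    have e1 := fadd 0 0 b; have e2 := gadd 0 0 b
    rw [add_zero] at e1 e2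
    rw [left_eq_add.1 e1, left_eq_add.1 e2]
  have h0' : ∀ a, f a 0 = g a 0 := fun a => by
    have e1 := fadd' a 0 0; have e2 := gadd' a 0 0
    rw [add_zero] at e1 e2
    rw [left_eq_add.1 e1, left_eq_add.1 e2]
  have key : ∀ w a, f a (exteriorPower.ιMulti R p w) = g a (exteriorPower.ιMulti R p w) := fun w a => by
    have ha : a ∈ Submodule.span R (Set.range (exteriorPower.ιMulti R q (M := M))) := by
      rw [exteriorPower.ιMulti_span]; exact Submodule.mem_top
    obtain ⟨m, c, v, rfl⟩ := Submodule.mem_span_set'.1 ha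
    induction (Finset.univ : Finset (Fin m)) using Finset.cons_induction with
    | empty => simpa using h0 _
    | cons i s hi ih =>
      rw [Finset.sum_cons, fadd, gadd, ih]
      obtain ⟨v', hv'⟩ := (v i).2
      rw [← hv', hsm _ _ _ (hgen v' w)]
  have hb : b ∈ Submodule.span R (Set.range (exteriorPower.ιMulti R p (M := M))) := by
    rw [exteriorPower.ιMulti_span]; exact Submodule.mem_top
  obtain ⟨m, c, v, rfl⟩ := Submodule.mem_span_set'.1 hb
  induction (Finset.univ : Finset (Fin m)) using Finset.cons_induction with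
  | empty => simpa using h0' a
  | cons i s hi ih =>
    rw [Finset.sum_cons, fadd', gadd', ih]
    obtain ⟨w, hw⟩ := (v i).2
    rw [← hw, hsm' _ _ _ (key w)]

section Free

variable (b : Basis (Fin n) R M) (h : q + p = n)

/-- The complementary index set. -/
def compl (S : powersetCard (Fin n) q) : powersetCard (Fin n) p :=
  ⟨(S.1)ᶜ, by
    show ((S.1)ᶜ).card = p
    rw [Finset.card_compl, Fintype.card_fin, show S.1.card = q from S.2]
    omega⟩

/-- The two index sequences together. -/
def idx (S : powersetCard (Fin n) q) (T : powersetCard (Fin n) p) : Fin n → Fin n :=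
  app h (ofFinEmbEquiv.symm S) (ofFinEmbEquiv.symm T)

theorem idx_castAdd (S : powersetCard (Fin n) q) (T : powersetCard (Fin n) p) (a : Fin q) :
    idx h S T ((Fin.castAdd p a).cast h) = ofFinEmbEquiv.symm S a := by
  simp [idx, app]

theorem idx_natAdd (S : powersetCard (Fin n) q) (T : powersetCard (Fin n) p) (a : Fin p) :
    idx h S T ((Fin.natAdd q a).cast h) = ofFinEmbEquiv.symm T a := by
  simp [idx, app]

theorem mulLin_family (S : powersetCard (Fin n) q) (T : powersetCard (Fin n) p) :
    mulLin h (exteriorPower.ιMulti_family R q b S) (exteriorPower.ιMulti_family R p b T) =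
      exteriorPower.ιMulti R n (b ∘ idx h S T) := by
  subst h
  show mulLin rfl (exteriorPower.ιMulti R q _) (exteriorPower.ιMulti R p _) = _
  rw [mulLin_ιMulti]
  congr 1
  funext i
  refine Fin.addCases (fun a => ?_) (fun a => ?_) i <;> simp [app, idx]

theorem mulLin_family_ne (S : powersetCard (Fin n) q) (T : powersetCard (Fin n) p) (hne : T ≠ compl h S) :
    mulLin h (exteriorPower.ιMulti_family R q b S) (exteriorPower.ιMulti_family R p b T) = 0 := by
  rw [mulLin_family]
  obtain ⟨x, hxS, hxT⟩ : ∃ x, x ∈ S.1 ∧ x ∈ T.1 := by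
    by_contra hcon
    push_neg at hcon
    refine hne (Subtype.ext (Finset.eq_of_subset_of_card_le (fun x hx => Finset.mem_compl.2 fun h' => hcon x h' hx) ?_))
    exact ((compl h S).2.trans T.2.symm).le
  obtain ⟨i, hi⟩ := (mem_range_ofFinEmbEquiv_symm_iff_mem S x).mpr hxS
  obtain ⟨j, hj⟩ := (mem_range_ofFinEmbEquiv_symm_iff_mem T x).mpr hxT
  refine AlternatingMap.map_eq_zero_of_eq _ _ (i := (Fin.castAdd p i).cast h) (j := (Fin.natAdd q j).cast h) ?_ ?_
  · simp [idx_castAdd, idx_natAdd, hi, hj]
  · intro e
    have := congrArg (fun t : Fin n => (t : ℕ)) e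
    simp at this
    omega

theorem idx_compl_bijective (S : powersetCard (Fin n) q) : Function.Bijective (idx h S (compl h S)) := by
  refine (Finite.injective_iff_bijective).1 ?_
  subst h
  intro i j hij
  have hl : ∀ a, idx rfl S (compl rfl S) (Fin.castAdd p a) = ofFinEmbEquiv.symm S a := fun a => by
    simpa using idx_castAdd rfl S (compl rfl S) a
  have hr : ∀ a, idx rfl S (compl rfl S) (Fin.natAdd q a) = ofFinEmbEquiv.symm (compl rfl S) a := fun a => by
    simpa using idx_natAdd rfl S (compl rfl S) a
  have hdisj : ∀ a a', ofFinEmbEquiv.symm S a ≠ ofFinEmbEquiv.symm (compl rfl S) a' := fun a a' e => by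
    have h1 := (mem_range_ofFinEmbEquiv_symm_iff_mem S _).mp ⟨a, rfl⟩
    have h2 := (mem_range_ofFinEmbEquiv_symm_iff_mem (compl rfl S) _).mp ⟨a', rfl⟩
    rw [← e] at h2
    exact (Finset.mem_compl.1 h2) h1
  revert hij
  refine Fin.addCases (fun a => ?_) (fun a => ?_) i <;> refine Fin.addCases (fun a' => ?_) (fun a' => ?_) j <;>
    simp only [hl, hr] <;> intro e
  · rw [(ofFinEmbEquiv.symm S).injective e]
  · exact (hdisj a a' e).elim
  · exact (hdisj a' a e.symm).elim
  · rw [(ofFinEmbEquiv.symm (compl rfl S)).injective e]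

/-- The sign of a complementary pair. -/
def sgn (S : powersetCard (Fin n) q) : R :=
  ((Equiv.Perm.sign (Equiv.ofBijective _ (idx_compl_bijective h S)) : ℤˣ) : ℤ)

theorem isUnit_sgn (S : powersetCard (Fin n) q) : IsUnit (sgn (R := R) h S) :=
  (Units.isUnit _).map (Int.castRingHom R)

theorem mulLin_family_compl (S : powersetCard (Fin n) q) :
    mulLin h (exteriorPower.ιMulti_family R q b S) (exteriorPower.ιMulti_family R p b (compl h S)) =
      sgn (R := R) h S • exteriorPower.ιMulti R n b := by
  rw [mulLin_family]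
  refine ((exteriorPower.ιMulti R n).map_perm (b : Fin n → M) (Equiv.ofBijective _ (idx_compl_bijective h S))).trans ?_
  rw [Units.smul_def, ← Int.cast_smul_eq_zsmul R]
  rfl

/-- The top wedge of a basis is a basis. -/
theorem top_bijective : Function.Bijective fun c : R => c • exteriorPower.ιMulti R n b := by
  let B := b.exteriorPower n
  haveI : Subsingleton (powersetCard (Fin n) n) := ⟨fun s t => Subtype.ext (by
    rw [Finset.eq_univ_of_card s.1 (by rw [Fintype.card_fin]; exact s.2),
      Finset.eq_univ_of_card t.1 (by rw [Fintype.card_fin]; exact t.2)])⟩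
  let s₀ : powersetCard (Fin n) n := ⟨Finset.univ, by
    show (Finset.univ : Finset (Fin n)).card = n
    simp⟩
  have h0 : B s₀ = exteriorPower.ιMulti R n b := by
    rw [exteriorPower.basis_apply, exteriorPower.ιMulti_family]
    congr 1
    funext i
    show b _ = b i
    congr 1
    have hmono : StrictMono (ofFinEmbEquiv.symm s₀) := (ofFinEmbEquiv.symm s₀).strictMono
    exact (congrFun ((hmono.range_inj strictMono_id).1 (by rw [Set.range_id]; exact Set.range_eq_univ.2 (Finite.surjective_of_injective hmono.injective))) i)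
  refine ⟨fun c c' hc => ?_, fun z => ⟨B.repr z s₀, ?_⟩⟩
  · have := congrArg (fun z => B.repr z s₀) hc
    simpa [← h0] using this
  · show B.repr z s₀ • _ = z
    rw [← h0]
    conv_rhs => rw [← B.sum_repr z]
    rw [Fintype.sum_subsingleton _ s₀]

include b in
/-- The pairing is perfect on free modules. -/
theorem mulLin_bijective : Function.Bijective (mulLin (R := R) (M := M) h) := by
  classical
  let Bq := b.exteriorPower q
  let Bp := b.exteriorPower p
  have hval : ∀ (c : powersetCard (Fin n) q → R) (S : powersetCard (Fin n) q),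
      mulLin h (∑ T, c T • Bq T) (Bp (compl h S)) = (c S * sgn (R := R) h S) • exteriorPower.ιMulti R n b := by
    intro c S
    simp only [map_sum, map_smul, LinearMap.coe_sum, Finset.sum_apply, LinearMap.smul_apply, Bq, Bp,
      exteriorPower.basis_apply]
    rw [Finset.sum_eq_single S, mulLin_family_compl, smul_smul]
    · intro T _ hT
      rw [mulLin_family_ne b h T (compl h S) fun e => hT (Subtype.ext (compl_injective (congrArg Subtype.val e))).symm,
        smul_zero]
    · simp
  refine ⟨(injective_iff_map_eq_zero _).2 fun ξ hξ => ?_, fun ψ => ?_⟩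
  · rw [← Bq.sum_repr ξ] at hξ ⊢
    refine Finset.sum_eq_zero fun S _ => ?_
    have h1 := LinearMap.congr_fun hξ (Bp (compl h S))
    rw [hval, LinearMap.zero_apply] at h1
    have h2 : Bq.repr ξ S * sgn (R := R) h S = 0 := (top_bijective b).1 (by simpa using h1)
    rw [(isUnit_sgn h S).mul_left_eq_zero] at h2
    rw [h2, zero_smul]
  · choose c hc using fun S : powersetCard (Fin n) q => (top_bijective b).2 (ψ (Bp (compl h S)))
    refine ⟨∑ S, (c S * ((isUnit_sgn (R := R) h S).unit⁻¹ : Rˣ)) • Bq S, Bp.ext fun T => ?_⟩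
    obtain ⟨S, rfl⟩ : ∃ S, compl h S = T := ⟨compl ((Nat.add_comm p q).trans h) T, Subtype.ext (compl_compl T.1)⟩
    rw [hval, mul_assoc, IsUnit.val_inv_mul, mul_one]
    exact hc S

end Free

end Groth.Agent.WedgeX
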