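import Groth.Agent.WedgeX.Free
import Groth.Agent.RefX.Lift
import Groth.Agent.HomShX.Basic
import Groth.Agent.Lib.CurveDeg
import Mathlib

/-!
# The wedge pairing of complementary exterior powers of a locally free sheaf is perfect
-/

set_option autoImplicit false
set_option linter.style.haveILetI false
set_option maxHeartbeats 800000
set_option backward.isDefEq.respectTransparency false
set_option backward.isDefEq.respectTransparency.types false

universe u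

open CategoryTheory CategoryTheory.Limits AlgebraicGeometry TopologicalSpace Opposite Set.powersetCard
open RefHull (StalkHom homSh stalkMapₗ stalkMapₗ_germ evalStalk evalStalk_germ)

noncomputable section

namespace Groth.Agent.WedgeX

open Groth.Agent.AModX

variable {X : Scheme.{u}} {n p q : ℕ} {E L L' T : X.Modules}
  (φ : ∀ U : X.affineOpens, (L.val.obj (op U.1)) ≃ₗ[Γ(X, U.1)] ↥(⋀[Γ(X, U.1)]^p (E.val.obj (op U.1))))
  (φ' : ∀ U : X.affineOpens, (L'.val.obj (op U.1)) ≃ₗ[Γ(X, U.1)] ↥(⋀[Γ(X, U.1)]^q (E.val.obj (op U.1))))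
  (φT : ∀ U : X.affineOpens, (T.val.obj (op U.1)) ≃ₗ[Γ(X, U.1)] ↥(⋀[Γ(X, U.1)]^n (E.val.obj (op U.1))))
  (h : q + p = n)

/-- The structure isomorphism, on sections. -/
def sec {M : X.Modules} {k : ℕ}
    (χ : ∀ U : X.affineOpens, (M.val.obj (op U.1)) ≃ₗ[Γ(X, U.1)] ↥(⋀[Γ(X, U.1)]^k (E.val.obj (op U.1))))
    (U : X.affineOpens) : Γ(M, U.1) ≃ₗ[Γ(X, U.1)] ↥(⋀[Γ(X, U.1)]^k (E.val.obj (op U.1))) where
  toFun := χ U
  invFun := (χ U).symm
  left_inv := (χ U).left_inv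
  right_inv := (χ U).right_inv
  map_add' := map_add (χ U)
  map_smul' := map_smul (χ U)

theorem res_sec {M : X.Modules} {k : ℕ}
    {χ : ∀ U : X.affineOpens, (M.val.obj (op U.1)) ≃ₗ[Γ(X, U.1)] ↥(⋀[Γ(X, U.1)]^k (E.val.obj (op U.1)))}
    (hχ : Compat χ) (U V : X.affineOpens) (hV : V.1 ≤ U.1) (v : Fin k → E.val.obj (op U.1)) :
    res M hV ((sec χ U).symm (exteriorPower.ιMulti _ k v)) =
      (sec χ V).symm (exteriorPower.ιMulti _ k fun j => E.val.map (homOfLE hV).op (v j)) :=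
  hχ U V hV v

/-- The pairing on sections over an affine open. -/
def B (U : X.affineOpens) : Γ(L', U.1) →ₗ[Γ(X, U.1)] Γ(L, U.1) →ₗ[Γ(X, U.1)] Γ(T, U.1) :=
  ((mulLin h).compl₁₂ (sec φ' U).toLinearMap (sec φ U).toLinearMap).compr₂ (sec φT U).symm.toLinearMap

theorem B_apply (U : X.affineOpens) (ξ : Γ(L', U.1)) (η : Γ(L, U.1)) :
    B φ φ' φT h U ξ η = (sec φT U).symm (mulLin h (sec φ' U ξ) (sec φ U η)) := rfl

theorem B_symm (U : X.affineOpens) (a : ↥(⋀[Γ(X, U.1)]^q (E.val.obj (op U.1))))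
    (b : ↥(⋀[Γ(X, U.1)]^p (E.val.obj (op U.1)))) :
    B φ φ' φT h U ((sec φ' U).symm a) ((sec φ U).symm b) = (sec φT U).symm (mulLin h a b) := by
  rw [B_apply, LinearEquiv.apply_symm_apply, LinearEquiv.apply_symm_apply]

theorem res_B (hφ : Compat φ) (hφ' : Compat φ') (hφT : Compat φT) (U V : X.affineOpens) (hV : V.1 ≤ U.1)
    (ξ : Γ(L', U.1)) (η : Γ(L, U.1)) :
    res T hV (B φ φ' φT h U ξ η) = B φ φ' φT h V (res L' hV ξ) (res L hV η) := by
  obtain ⟨a, rfl⟩ : ∃ a, (sec φ' U).symm a = ξ := ⟨sec φ' U ξ, (sec φ' U).symm_apply_apply ξ⟩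
  obtain ⟨b, rfl⟩ : ∃ b, (sec φ U).symm b = η := ⟨sec φ U η, (sec φ U).symm_apply_apply η⟩
  refine eq_of_ιMulti (R := Γ(X, U.1)) (M := E.val.obj (op U.1)) h
    (f := fun a b => res T hV (B φ φ' φT h U ((sec φ' U).symm a) ((sec φ U).symm b)))
    (g := fun a b => B φ φ' φT h V (res L' hV ((sec φ' U).symm a)) (res L hV ((sec φ U).symm b)))
    ?_ ?_ ?_ ?_ ?_ ?_ ?_ a b
  · intro a a' b; simp only [map_add, LinearMap.add_apply]
  · intro a b b'; simp only [map_add, LinearMap.add_apply]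
  · intro a a' b; simp only [map_add, LinearMap.add_apply]
  · intro a b b'; simp only [map_add, LinearMap.add_apply]
  · intro c v b e
    simp only [map_smul, LinearMap.smul_apply, res_smul, e]
  · intro c a w e
    simp only [map_smul, LinearMap.smul_apply, res_smul, e a]
  · intro v w
    rw [B_symm, mulLin_ιMulti, res_sec hφT, res_sec hφ', res_sec hφ]
    let v' : Fin q → E.val.obj (op V.1) := fun j => E.val.map (homOfLE hV).op (v j)
    let w' : Fin p → E.val.obj (op V.1) := fun j => E.val.map (homOfLE hV).op (w j)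
    refine Eq.trans (congrArg (sec φT V).symm ?_) (B_symm φ φ' φT h V
      (exteriorPower.ιMulti Γ(X, V.1) q v') (exteriorPower.ιMulti Γ(X, V.1) p w')).symm
    refine Eq.trans ?_ (mulLin_ιMulti h v' w').symm
    refine congrArg (exteriorPower.ιMulti Γ(X, V.1) n) ?_
    clear * - h
    subst h
    funext i
    simp only [app, Fin.cast_refl, Function.comp_id, v', w']
    refine Fin.addCases (fun a => ?_) (fun a => ?_) i
    · erw [Fin.append_left, Fin.append_left]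
    · erw [Fin.append_right, Fin.append_right]

theorem θ_smul (U : X.affineOpens) (ξ : Γ(L', U.1)) (r : Γ(X, U.1)) (a : Γ(L, U.1)) :
    B φ φ' φT h U ξ (r • a) = resR (le_refl U.1) r • B φ φ' φT h U ξ a :=
  (map_smul (B φ φ' φT h U ξ) r a).trans (congrArg (fun t => t • B φ φ' φT h U ξ a) (resR_self r).symm)

/-- The pairing with a section, as a linear map. -/
def θ (U : X.affineOpens) (ξ : Γ(L', U.1)) :
    letI := RefX.resModule T (le_refl U.1); Γ(L, U.1) →ₗ[Γ(X, U.1)] Γ(T, U.1) :=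
  letI := RefX.resModule T (le_refl U.1)
  { toFun := fun η => B φ φ' φT h U ξ η
    map_add' := fun a b => map_add (B φ φ' φT h U ξ) a b
    map_smul' := θ_smul φ φ' φT h U ξ }

variable (hL : Coh.IsQCoh L)

/-- The stalk map defined by a section over an affine open. -/
def sg (U : X.affineOpens) (ξ : Γ(L', U.1)) (y : X) (hy : y ∈ U.1) : StalkHom L T y :=
  (RefX.ofLin hL U.2 le_rfl (θ φ φ' φT h U ξ)).1 ⟨y, hy⟩

theorem sg_germ (U : X.affineOpens) (ξ : Γ(L', U.1)) (y : X) (hy : y ∈ U.1) (m : Γ(L, U.1)) :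
    sg φ φ' φT h hL U ξ y hy (L.presheaf.germ U.1 y hy m) =
      T.presheaf.germ U.1 y hy (B φ φ' φT h U ξ m) :=
  RefX.ofLin_germ hL U.2 le_rfl (θ φ φ' φT h U ξ) hy m

variable (hφ : Compat φ) (hφ' : Compat φ') (hφT : Compat φT)

include hφ hφ' hφT in
theorem sg_res (U V : X.affineOpens) (hV : V.1 ≤ U.1) (ξ : Γ(L', U.1)) (y : X) (hy : y ∈ V.1) :
    sg φ φ' φT h hL V (res L' hV ξ) y hy = sg φ φ' φT h hL U ξ y (hV hy) := by
  refine RefX.stalkHom_ext hL U.2 (hV hy) fun m => ?_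
  rw [sg_germ, ← RefX.germ_res L hV hy m, sg_germ, ← res_B φ φ' φT h hφ hφ' hφT U V hV, RefX.germ_res]

include hφ hφ' hφT in
theorem sg_indep (U V : X.affineOpens) (y : X) (hyU : y ∈ U.1) (hyV : y ∈ V.1) (ξ : Γ(L', U.1)) (ζ : Γ(L', V.1))
    (he : L'.presheaf.germ U.1 y hyU ξ = L'.presheaf.germ V.1 y hyV ζ) :
    sg φ φ' φT h hL U ξ y hyU = sg φ φ' φT h hL V ζ y hyV := by
  obtain ⟨W, hW, i, j, hij⟩ := TopCat.Presheaf.germ_eq (C := AddCommGrpCat.{u}) L'.presheaf y hyU hyV _ _ he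
  change res L' i.le ξ = res L' j.le ζ at hij
  obtain ⟨_, ⟨Q, hQ, rfl⟩, hyQ, hQW⟩ := X.isBasis_affineOpens.exists_subset_of_mem_open hW W.2
  rw [← sg_res φ φ' φT h hL hφ hφ' hφT U ⟨Q, hQ⟩ ((hQW : Q ≤ W).trans i.le) ξ y hyQ,
    ← sg_res φ φ' φT h hL hφ hφ' hφT V ⟨Q, hQ⟩ ((hQW : Q ≤ W).trans j.le) ζ y hyQ,
    ← res_res i.le (hQW : Q ≤ W), hij, res_res]

omit hL in
theorem exists_affine_germ (M : X.Modules) (y : X) (z : M.presheaf.stalk y) :
    ∃ (U : X.affineOpens) (hy : y ∈ U.1) (ξ : Γ(M, U.1)), M.presheaf.germ U.1 y hy ξ = z := by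
  obtain ⟨V, hV, m, rfl⟩ := TopCat.Presheaf.exists_germ_eq M.presheaf z
  obtain ⟨_, ⟨Q, hQ, rfl⟩, hyQ, hQV⟩ := X.isBasis_affineOpens.exists_subset_of_mem_open hV V.2
  exact ⟨⟨Q, hQ⟩, hyQ, res M (hQV : Q ≤ V) m, RefX.germ_res M _ hyQ m⟩

include hφ hφ' hφT in
theorem exists_A (y : X) : ∃ A : L'.presheaf.stalk y →ₗ[X.presheaf.stalk y] StalkHom L T y,
    ∀ (U : X.affineOpens) (hy : y ∈ U.1) (ξ : Γ(L', U.1)),
      A (L'.presheaf.germ U.1 y hy ξ) = sg φ φ' φT h hL U ξ y hy := by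
  choose U hU ξ hξ using exists_affine_germ L' y
  have key : ∀ (V : X.affineOpens) (hy : y ∈ V.1) (ζ : Γ(L', V.1)) (z : L'.presheaf.stalk y),
      L'.presheaf.germ V.1 y hy ζ = z → sg φ φ' φT h hL (U z) (ξ z) y (hU z) = sg φ φ' φT h hL V ζ y hy :=
    fun V hy ζ z hz => sg_indep φ φ' φT h hL hφ hφ' hφT _ _ y _ _ _ _ ((hξ z).trans hz.symm)
  refine ⟨{ toFun := fun z => sg φ φ' φT h hL (U z) (ξ z) y (hU z), map_add' := fun z z' => ?_, map_smul' := fun r z => ?_ },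
    fun V hy ζ => key V hy ζ _ rfl⟩
  · obtain ⟨_, ⟨Q, hQ, rfl⟩, hyQ, hQle⟩ := X.isBasis_affineOpens.exists_subset_of_mem_open
      (show y ∈ (U z).1 ⊓ (U z').1 from ⟨hU z, hU z'⟩) ((U z).1 ⊓ (U z').1).2
    have h1 : Q ≤ (U z).1 := (hQle : Q ≤ (U z).1 ⊓ (U z').1).trans inf_le_left
    have h2 : Q ≤ (U z').1 := (hQle : Q ≤ (U z).1 ⊓ (U z').1).trans inf_le_right
    rw [key ⟨Q, hQ⟩ hyQ (res L' h1 (ξ z) + res L' h2 (ξ z')) _ (by rw [map_add, RefX.germ_res, RefX.germ_res, hξ, hξ]),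
      ← sg_res φ φ' φT h hL hφ hφ' hφT (U z) ⟨Q, hQ⟩ h1, ← sg_res φ φ' φT h hL hφ hφ' hφT (U z') ⟨Q, hQ⟩ h2]
    · refine RefX.stalkHom_ext hL hQ hyQ fun m => ?_
      rw [LinearMap.add_apply, sg_germ, sg_germ, sg_germ, ← map_add]
      exact congrArg _ (by rw [map_add, LinearMap.add_apply])
    all_goals exact hyQ
  · obtain ⟨V, hV, s, rfl⟩ := X.presheaf.exists_germ_eq (x := y) r
    obtain ⟨_, ⟨Q, hQ, rfl⟩, hyQ, hQle⟩ := X.isBasis_affineOpens.exists_subset_of_mem_open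
      (show y ∈ (U z).1 ⊓ V from ⟨hU z, hV⟩) ((U z).1 ⊓ V).2
    have h1 : Q ≤ (U z).1 := (hQle : Q ≤ (U z).1 ⊓ V).trans inf_le_left
    have h2 : Q ≤ V := (hQle : Q ≤ (U z).1 ⊓ V).trans inf_le_right
    rw [RingHom.id_apply, key ⟨Q, hQ⟩ hyQ (resR h2 s • res L' h1 (ξ z)) _ (by
      rw [QCoh.germ_smul', RefX.germ_res, RefX.germ_resR, hξ]),
      ← sg_res φ φ' φT h hL hφ hφ' hφT (U z) ⟨Q, hQ⟩ h1]
    · refine RefX.stalkHom_ext hL hQ hyQ fun m => ?_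
      rw [LinearMap.smul_apply, sg_germ, sg_germ, ← RefX.germ_resR h2 hyQ, ← QCoh.germ_smul']
      exact congrArg _ (by rw [map_smul, LinearMap.smul_apply])
    all_goals exact hyQ

/-- The pairing on stalks. -/
def A (y : X) : L'.presheaf.stalk y →ₗ[X.presheaf.stalk y] StalkHom L T y :=
  (exists_A φ φ' φT h hL hφ hφ' hφT y).choose

theorem A_germ (y : X) (U : X.affineOpens) (hy : y ∈ U.1) (ξ : Γ(L', U.1)) :
    A φ φ' φT h hL hφ hφ' hφT y (L'.presheaf.germ U.1 y hy ξ) = sg φ φ' φT h hL U ξ y hy :=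
  (exists_A φ φ' φT h hL hφ hφ' hφT y).choose_spec U hy ξ

/-- The pairing into the sheaf of homomorphisms. -/
def αFun (U : X.Opens) : Γ(L', U) →+ Γ(homSh L T, U) where
  toFun s := ⟨fun x => A φ φ' φT h hL hφ hφ' hφT x.1 (L'.presheaf.germ U x.1 x.2 s), fun V i m x => by
    obtain ⟨_, ⟨Q, hQ, rfl⟩, hxQ, hQV⟩ := X.isBasis_affineOpens.exists_subset_of_mem_open x.2 V.2
    refine ⟨Q, hxQ, homOfLE (hQV : Q ≤ V),
      (B φ φ' φT h ⟨Q, hQ⟩ (res L' ((hQV : Q ≤ V).trans i.le) s) (res L (hQV : Q ≤ V) m)), fun y => ?_⟩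
    refine Eq.trans ?_ (sg_germ φ φ' φT h hL ⟨Q, hQ⟩ _ y.1 y.2 _)
    refine congr_arg₂ (fun (F : StalkHom L T y.1) v => F v) ?_ (RefX.germ_res L (hQV : Q ≤ V) y.2 m).symm
    exact (congrArg _ (RefX.germ_res L' ((hQV : Q ≤ V).trans i.le) y.2 s).symm).trans
      (A_germ φ φ' φT h hL hφ hφ' hφT y.1 ⟨Q, hQ⟩ y.2 _)⟩
  map_zero' := RefX.sect_ext fun x => by
    show A φ φ' φT h hL hφ hφ' hφT x.1 _ = 0
    rw [map_zero, map_zero]
  map_add' a b := RefX.sect_ext fun x => by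
    show A φ φ' φT h hL hφ hφ' hφT x.1 _ = A φ φ' φT h hL hφ hφ' hφT x.1 _ + A φ φ' φT h hL hφ hφ' hφT x.1 _
    rw [map_add, map_add]

/-- The pairing as a morphism. -/
def α : L' ⟶ homSh L T :=
  ⟨PresheafOfModules.homMk
    { app := fun U => AddCommGrpCat.ofHom (αFun φ φ' φT h hL hφ hφ' hφT U.unop)
      naturality := fun {U V} i => by
        ext s
        refine RefX.sect_ext fun x => ?_
        change A φ φ' φT h hL hφ hφ' hφT x.1 _ = A φ φ' φT h hL hφ hφ' hφT x.1 _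
        exact congrArg _ (TopCat.Presheaf.germ_res_apply' L'.presheaf i x.1 x.2 s) }
    (fun U r s => RefX.sect_ext fun x =>
      (congrArg (A φ φ' φT h hL hφ hφ' hφT x.1) (Mero.germ_smul L' U.unop x.1 x.2 r s)).trans
        (map_smul (A φ φ' φT h hL hφ hφ' hφT x.1) _ _))⟩

theorem evalStalk_α (y : X) (z : L'.presheaf.stalk y) :
    evalStalk L T y (stalkMapₗ (α φ φ' φT h hL hφ hφ' hφT) y z) = A φ φ' φT h hL hφ hφ' hφT y z := by
  obtain ⟨U, hy, s, rfl⟩ := TopCat.Presheaf.exists_germ_eq L'.presheaf z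
  rw [stalkMapₗ_germ, evalStalk_germ]
  rfl

variable {U₀ : X.Opens} {s : Fin n → Γ(E, U₀)} (hs : H23.Frame.IsFrame E s)

include hs in
theorem B_bijective (W : X.affineOpens) (hW : W.1 ≤ U₀) : Function.Bijective (B φ φ' φT h W) := by
  let b : Module.Basis (Fin n) Γ(X, W.1) (E.val.obj (op W.1)) := ExtShX.TopExt.bas hs W.1 hW
  have h1 := mulLin_bijective b h
  refine ⟨fun ξ ζ e => (sec φ' W).injective (h1.1 (LinearMap.ext fun z => ?_)), fun ψ => ?_⟩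
  · have h2 := LinearMap.congr_fun e ((sec φ W).symm z)
    rw [B_apply, B_apply, LinearEquiv.apply_symm_apply] at h2
    exact (sec φT W).symm.injective h2
  · obtain ⟨a, ha⟩ := h1.2 ((sec φT W).toLinearMap ∘ₗ ψ ∘ₗ (sec φ W).symm.toLinearMap)
    refine ⟨(sec φ' W).symm a, LinearMap.ext fun η => ?_⟩
    rw [B_apply, LinearEquiv.apply_symm_apply, ha]
    simp

include hs in
theorem A_bijective (y : X) (hy : y ∈ U₀) : Function.Bijective (A φ φ' φT h hL hφ hφ' hφT y) := by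
  classical
  obtain ⟨_, ⟨W, hWa, rfl⟩, hyW, hW⟩ := X.isBasis_affineOpens.exists_subset_of_mem_open hy U₀.2
  let W' : X.affineOpens := ⟨W, hWa⟩
  let bp := fun (Q : X.affineOpens) (hQ : Q.1 ≤ W) => lbas φ hs Q (hQ.trans (hW : W ≤ U₀))
  refine ⟨(injective_iff_map_eq_zero _).2 fun z hz => ?_, fun ψ => ?_⟩
  · obtain ⟨V, hV, m, rfl⟩ := TopCat.Presheaf.exists_germ_eq L'.presheaf z
    obtain ⟨_, ⟨Q, hQ, rfl⟩, hyQ, hQle⟩ :=
      X.isBasis_affineOpens.exists_subset_of_mem_open (show y ∈ V ⊓ W from ⟨hV, hyW⟩) (V ⊓ W).2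
    have hQV : Q ≤ V := (hQle : Q ≤ V ⊓ W).trans inf_le_left
    have hQW : Q ≤ W := (hQle : Q ≤ V ⊓ W).trans inf_le_right
    rw [← RefX.germ_res L' hQV hyQ m] at hz ⊢
    rw [A_germ φ φ' φT h hL hφ hφ' hφT y ⟨Q, hQ⟩ hyQ] at hz
    have h0 : ∀ S, T.presheaf.germ Q y hyQ (B φ φ' φT h ⟨Q, hQ⟩ (res L' hQV m) (bp ⟨Q, hQ⟩ hQW S)) =
        T.presheaf.germ Q y hyQ 0 := fun S => by
      have h1 := LinearMap.congr_fun hz (L.presheaf.germ Q y hyQ (bp ⟨Q, hQ⟩ hQW S))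
      rw [sg_germ φ φ' φT h hL ⟨Q, hQ⟩ _ y hyQ] at h1
      rw [map_zero]
      exact h1
    choose Z hZ i j hij using fun S =>
      TopCat.Presheaf.germ_eq (C := AddCommGrpCat.{u}) T.presheaf y hyQ hyQ _ _ (h0 S)
    let Z₀ : X.Opens := Q ⊓ Finset.univ.inf Z
    have hyZ : y ∈ Z₀ := ⟨hyQ, by
      show y ∈ ((Finset.univ.inf Z : X.Opens) : Set X)
      simp [TopologicalSpace.Opens.coe_finset_inf, hZ]⟩
    obtain ⟨_, ⟨Q', hQ', rfl⟩, hyQ', hQ'le⟩ := X.isBasis_affineOpens.exists_subset_of_mem_open hyZ Z₀.2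
    have h' : Q' ≤ Q := (hQ'le : Q' ≤ Z₀).trans inf_le_left
    have hZ' : ∀ S, Q' ≤ Z S := fun S =>
      (show Q' ≤ Finset.univ.inf Z from le_trans (hQ'le : Q' ≤ Z₀) inf_le_right).trans (Finset.inf_le (Finset.mem_univ S))
    have hB0 : B φ φ' φT h ⟨Q', hQ'⟩ (res L' h' (res L' hQV m)) = 0 := by
      refine (bp ⟨Q', hQ'⟩ (h'.trans hQW)).ext fun S => ?_
      have h2 := congrArg (res T (hZ' S)) (show res T (i S).le _ = res T (j S).le _ from hij S)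
      rw [res_res, res_res, map_zero] at h2
      rw [LinearMap.zero_apply]
      refine Eq.trans ?_ h2
      have h3 := res_B φ φ' φT h hφ hφ' hφT ⟨Q, hQ⟩ ⟨Q', hQ'⟩ h' (res L' hQV m) (bp ⟨Q, hQ⟩ hQW S)
      rw [res_lbas φ hs hφ ⟨Q, hQ⟩ ⟨Q', hQ'⟩ h'] at h3
      exact h3.symm
    have h4 : res L' h' (res L' hQV m) = 0 :=
      (B_bijective φ φ' φT h hs ⟨Q', hQ'⟩ ((h'.trans hQW).trans hW)).1 (hB0.trans (map_zero _).symm)
    rw [← RefX.germ_res L' h' hyQ', h4, map_zero]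
  · choose V hV t ht using fun S =>
      TopCat.Presheaf.exists_germ_eq T.presheaf (ψ (L.presheaf.germ W y hyW (bp W' le_rfl S)))
    let Z₀ : X.Opens := W ⊓ Finset.univ.inf V
    have hyZ : y ∈ Z₀ := ⟨hyW, by
      show y ∈ ((Finset.univ.inf V : X.Opens) : Set X)
      simp [TopologicalSpace.Opens.coe_finset_inf, hV]⟩
    obtain ⟨_, ⟨Q, hQ, rfl⟩, hyQ, hQle⟩ := X.isBasis_affineOpens.exists_subset_of_mem_open hyZ Z₀.2
    have hQW : Q ≤ W := (hQle : Q ≤ Z₀).trans inf_le_left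
    have hQV : ∀ S, Q ≤ V S := fun S =>
      (show Q ≤ Finset.univ.inf V from le_trans (hQle : Q ≤ Z₀) inf_le_right).trans (Finset.inf_le (Finset.mem_univ S))
    let b := bp ⟨Q, hQ⟩ hQW
    obtain ⟨ξ, hξ⟩ := (B_bijective φ φ' φT h hs ⟨Q, hQ⟩ (hQW.trans hW)).2
      (b.constr Γ(X, Q) fun S => res T (hQV S) (t S))
    refine ⟨L'.presheaf.germ Q y hyQ ξ, ?_⟩
    rw [A_germ φ φ' φT h hL hφ hφ' hφT y ⟨Q, hQ⟩ hyQ]
    have hbas : ∀ S, sg φ φ' φT h hL ⟨Q, hQ⟩ ξ y hyQ (L.presheaf.germ Q y hyQ (b S)) =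
        ψ (L.presheaf.germ Q y hyQ (b S)) := fun S => by
      rw [sg_germ, hξ]
      erw [b.constr_basis]
      erw [RefX.germ_res T (hQV S) hyQ (t S), ht S, ← res_lbas φ hs hφ W' ⟨Q, hQ⟩ hQW hW S,
        RefX.germ_res L hQW hyQ]
    refine RefX.stalkHom_ext hL hQ hyQ fun m => ?_
    rw [← b.sum_repr m]
    simp only [map_sum]
    refine Finset.sum_congr rfl fun S _ => ?_
    erw [QCoh.germ_smul', map_smul, map_smul, hbas S]

end Groth.Agent.WedgeX
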